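import Mathlib

set_option autoImplicit false

/-! # Checking a list in pieces (helper28) -/

namespace Cfsg.Agent.Lib.H28.TitsM

theorem forall_mem_split {α : Type*} {P : α → Prop} (n : ℕ) {l : List α} (h1 : ∀ r ∈ l.take n, P r)
    (h2 : ∀ r ∈ l.drop n, P r) : ∀ r ∈ l, P r := by
  intro r hr
  rw [← List.take_append_drop n l, List.mem_append] at hr
  rcases hr with hr | hr
  · exact h1 r hr
  · exact h2 r hr

end Cfsg.Agent.Lib.H28.TitsM
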