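import Cfsg.Agent.Lib.H28.TitsM.Conc.Data
import Cfsg.Agent.Lib.H28.TitsM.Conc.Split
import Cfsg.Agent.Lib.H28.TitsM.Rels

set_option autoImplicit false
set_option maxRecDepth 1000000

/-! # The rack relators hold in the Tits group, part 3 (generated; helper28) -/

namespace Cfsg.Agent.Lib.H28.TitsM

open Cfsg.Agent.Lib.H3.Tits

theorem relchk3_0 : ∀ r ∈ (rackL3).take 50, evC (rackWord r.1 r.2.1 r.2.2.1 r.2.2.2) = oneC := by
  decide +kernel

theorem relchk3_1 : ∀ r ∈ ((rackL3).drop 50).take 50, evC (rackWord r.1 r.2.1 r.2.2.1 r.2.2.2) = oneC := by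
  decide +kernel

theorem relchk3_2 : ∀ r ∈ (((rackL3).drop 50).drop 50).take 50, evC (rackWord r.1 r.2.1 r.2.2.1 r.2.2.2) = oneC := by
  decide +kernel

theorem relchk3_3 : ∀ r ∈ ((((rackL3).drop 50).drop 50).drop 50).take 50, evC (rackWord r.1 r.2.1 r.2.2.1 r.2.2.2) = oneC := by
  decide +kernel

theorem relchk3_4 : ∀ r ∈ (((((rackL3).drop 50).drop 50).drop 50).drop 50).take 50, evC (rackWord r.1 r.2.1 r.2.2.1 r.2.2.2) = oneC := by
  decide +kernel

theorem relchk3_5 : ∀ r ∈ (((((rackL3).drop 50).drop 50).drop 50).drop 50).drop 50, evC (rackWord r.1 r.2.1 r.2.2.1 r.2.2.2) = oneC := by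
  decide +kernel

theorem relchk3 : ∀ r ∈ rackL3, evC (rackWord r.1 r.2.1 r.2.2.1 r.2.2.2) = oneC :=
  forall_mem_split 50 relchk3_0 (forall_mem_split 50 relchk3_1 (forall_mem_split 50 relchk3_2 (forall_mem_split 50 relchk3_3 (forall_mem_split 50 relchk3_4 (relchk3_5)))))

end Cfsg.Agent.Lib.H28.TitsM
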