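import Cfsg.Agent.Lib.H28.TitsM.Conc.Data
import Cfsg.Agent.Lib.H28.TitsM.Conc.RelChk0
import Cfsg.Agent.Lib.H28.TitsM.Conc.RelChk1
import Cfsg.Agent.Lib.H28.TitsM.Conc.RelChk2
import Cfsg.Agent.Lib.H28.TitsM.Conc.RelChk3
import Cfsg.Agent.Lib.H28.TitsM.Conc.RelChk4
import Cfsg.Agent.Lib.H28.TitsM.Conc.RelChk5

set_option autoImplicit false
set_option maxRecDepth 1000000

/-!
# Seven elements of order three generating the Tits group and satisfying the relators (helper28)
-/

namespace Cfsg.Agent.Lib.H28.TitsM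

open Cfsg.Agent.Lib.H3.Tits
open Cfsg.Agent.Lib.H3.F4 (actE2 mulE2)

/-- the seven generators in `²F₄(2)` (and `1` beyond) -/
noncomputable def xΓ (i : ℕ) : Γ := wΓ (XW i)

theorem xC_ok' (i : ℕ) : wordC (XW i) = xC i := by
  by_cases hi : i < 7
  · exact xC_ok i hi
  · obtain ⟨n, rfl⟩ : ∃ n, i = n + 7 := ⟨i - 7, by omega⟩
    rfl

theorem one_mul_code : mulE2 oneC oneC = oneC := by decide +kernel

theorem xCi_sq' (i : ℕ) : mulE2 (xC i) (xC i) = xCi i := by
  by_cases hi : i < 7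
  · exact xCi_sq i hi
  · obtain ⟨n, rfl⟩ : ∃ n, i = n + 7 := ⟨i - 7, by omega⟩
    exact one_mul_code

theorem xCi_inv' (i : ℕ) : mulE2 (xC i) (xCi i) = oneC := by
  by_cases hi : i < 7
  · exact xCi_inv i hi
  · obtain ⟨n, rfl⟩ : ∃ n, i = n + 7 := ⟨i - 7, by omega⟩
    exact one_mul_code

theorem code_xΓ (i : ℕ) : codeG ((xΓ i : Γ) : GLF) = xC i := by
  show codeG (wordG (XW i)) = xC i
  rw [codeG_wordG, xC_ok']

theorem xΓ_inv_eq (i : ℕ) : ((xΓ i : Γ) : GLF)⁻¹ = (xΓ i : GLF) * (xΓ i : GLF) := by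
  apply inv_eq_of_mul_eq_one_right
  apply codeG_inj
  rw [codeG_mul, codeG_mul, code_xΓ, xCi_sq', xCi_inv', codeG_one]

theorem code_xΓ_inv (i : ℕ) : codeG (((xΓ i : Γ) : GLF)⁻¹) = xCi i := by
  rw [xΓ_inv_eq, codeG_mul, code_xΓ, xCi_sq']

theorem xΓ_cube (i : ℕ) : xΓ i ^ 3 = 1 := by
  apply Subtype.ext
  rw [Subgroup.coe_pow, Subgroup.coe_one, pow_succ, pow_two]
  have h := xΓ_inv_eq i
  rw [mul_assoc, ← h, mul_inv_cancel]

theorem code_lv (l : ℕ) : codeG ((lv xΓ l : Γ) : GLF) = letC l := by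
  unfold lv letC
  split_ifs
  · exact code_xΓ _
  · rw [Subgroup.coe_inv]
    exact code_xΓ_inv _

theorem code_ev (w : List ℕ) : codeG ((ev xΓ w : Γ) : GLF) = evC w := by
  induction w with
  | nil => rw [ev_nil, evC_nil, Subgroup.coe_one, codeG_one]
  | cons l w ih => rw [ev_cons, evC_cons, Subgroup.coe_mul, codeG_mul, ih, code_lv]

theorem ev_eq_one_of_code {w : List ℕ} (h : evC w = oneC) : ev xΓ w = 1 := by
  apply Subtype.ext
  apply codeG_inj
  rw [code_ev, h, Subgroup.coe_one, codeG_one]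

theorem ev_eq_wΓ_of_code {w w' : List ℕ} (h : evC w = wordC w') : ev xΓ w = wΓ w' := by
  apply Subtype.ext
  apply codeG_inj
  rw [code_ev, h]
  exact (codeG_wordG w').symm

/-- all the relators hold, at the level of codes -/
theorem rels_code : ∀ w ∈ relL, evC w = oneC := by
  intro w hw
  unfold relL relWords at hw
  rw [List.mem_append, List.mem_append, List.mem_append] at hw
  rcases hw with ((hw | hw) | hw) | hw
  · exact relchk_cube w hw
  · exact relchk_inv w hw
  · obtain ⟨s, hs, rfl⟩ := List.mem_map.mp hw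
    exact relchk_st s hs
  · obtain ⟨r, hr, rfl⟩ := List.mem_map.mp hw
    unfold rackL at hr
    simp only [List.mem_append] at hr
    rcases hr with ((((hr | hr) | hr) | hr) | hr) | hr
    · exact relchk0 r hr
    · exact relchk1 r hr
    · exact relchk2 r hr
    · exact relchk3 r hr
    · exact relchk4 r hr
    · exact relchk5 r hr

/-- all the relators hold in `²F₄(2)` -/
theorem rels_xΓ : ∀ w ∈ relL, ev xΓ w = 1 := fun w hw => ev_eq_one_of_code (rels_code w hw)

theorem xΓ_mem_T (i : ℕ) : xΓ i ∈ T := mem_of_odd T T_ne_bot (xΓ i) 3 (by decide) (xΓ_cube i)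

theorem xΓ_ge {i : ℕ} (hi : 7 ≤ i) : xΓ i = 1 := by
  obtain ⟨n, rfl⟩ : ∃ n, i = n + 7 := ⟨i - 7, by omega⟩
  rfl

theorem xΓ_zero_ne_one : xΓ 0 ≠ 1 := by
  intro h
  have h1 := code_xΓ 0
  rw [h, Subgroup.coe_one, codeG_one] at h1
  exact xC_ne_one h1.symm

section gen

variable {Γ' : Type*} [Group Γ'] [Finite Γ']

/-- a subgroup with two cosets `M`, `g₂ M` permuted by generators -/
theorem mem_or_of_gens (M : Subgroup Γ') (g0 g1 g2 g3 : Γ')
    (htop : ∀ S : Subgroup Γ', g0 ∈ S → g1 ∈ S → g2 ∈ S → g3 ∈ S → S = ⊤)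
    (h0 : g0 ∈ M) (h1 : g1 ∈ M) (h22 : g2 * g2 ∈ M) (h23 : g2⁻¹ * g3 ∈ M) (h202 : g2⁻¹ * g0 * g2 ∈ M)
    (h212 : g2⁻¹ * g1 * g2 ∈ M) (h32 : g3 * g2 ∈ M) : ∀ g, g ∈ M ∨ g2⁻¹ * g ∈ M := by
  let P : Γ' → Prop := fun g => ∀ h, (h ∈ M ∨ g2⁻¹ * h ∈ M) → (g * h ∈ M ∨ g2⁻¹ * (g * h) ∈ M)
  have hone : P 1 := fun h hh => by simpa using hh
  have hmul : ∀ a b, P a → P b → P (a * b) := by
    intro a b ha hb h hh
    have := ha _ (hb h hh)
    simpa [mul_assoc] using this
  have hpow : ∀ a, P a → ∀ n : ℕ, P (a ^ n) := by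
    intro a ha n
    induction n with
    | zero => simpa using hone
    | succ n ih => rw [pow_succ]; exact hmul _ _ ih ha
  have hinv : ∀ a, P a → P a⁻¹ := by
    intro a ha
    have hpos : 0 < orderOf a := orderOf_pos a
    have e : a⁻¹ = a ^ (orderOf a - 1) := by
      apply inv_eq_of_mul_eq_one_right
      rw [← pow_succ', Nat.sub_add_cancel hpos, pow_orderOf_eq_one]
    rw [e]
    exact hpow a ha _
  let S : Subgroup Γ' :=
    { carrier := {g | P g}
      mul_mem' := fun {a b} ha hb => hmul a b ha hb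
      one_mem' := hone
      inv_mem' := fun {a} ha => hinv a ha }
  have hS : S = ⊤ := by
    apply htop S
    · intro h hh
      rcases hh with hh | hh
      · exact Or.inl (M.mul_mem h0 hh)
      · right
        have e : g2⁻¹ * (g0 * h) = (g2⁻¹ * g0 * g2) * (g2⁻¹ * h) := by group
        rw [e]
        exact M.mul_mem h202 hh
    · intro h hh
      rcases hh with hh | hh
      · exact Or.inl (M.mul_mem h1 hh)
      · right
        have e : g2⁻¹ * (g1 * h) = (g2⁻¹ * g1 * g2) * (g2⁻¹ * h) := by group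
        rw [e]
        exact M.mul_mem h212 hh
    · intro h hh
      rcases hh with hh | hh
      · right
        rw [inv_mul_cancel_left]
        exact hh
      · left
        have e : g2 * h = (g2 * g2) * (g2⁻¹ * h) := by group
        rw [e]
        exact M.mul_mem h22 hh
    · intro h hh
      rcases hh with hh | hh
      · right
        rw [← mul_assoc]
        exact M.mul_mem h23 hh
      · left
        have e : g3 * h = (g3 * g2) * (g2⁻¹ * h) := by group
        rw [e]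
        exact M.mul_mem h32 hh
  intro g
  have hg : g ∈ S := by rw [hS]; exact Subgroup.mem_top g
  have := hg 1 (Or.inl M.one_mem)
  simpa using this

end gen

theorem lv_mem_closure (l : ℕ) : lv xΓ l ∈ Subgroup.closure {g : Γ | ∃ i < 7, g = xΓ i} := by
  have h : xΓ (l % 7) ∈ Subgroup.closure {g : Γ | ∃ i < 7, g = xΓ i} :=
    Subgroup.subset_closure ⟨l % 7, Nat.mod_lt _ (by norm_num), rfl⟩
  unfold lv
  split_ifs
  · exact h
  · exact Subgroup.inv_mem _ h

theorem ev_mem_closure (w : List ℕ) : ev xΓ w ∈ Subgroup.closure {g : Γ | ∃ i < 7, g = xΓ i} := by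
  unfold ev
  apply Subgroup.list_prod_mem
  intro g hg
  obtain ⟨l, _, rfl⟩ := List.mem_map.mp hg
  exact lv_mem_closure l

theorem g2_inv : (wΓ [2])⁻¹ = wΓ [2, 2, 2] := wΓ_inv_of_code (w := [2]) (w' := [2, 2, 2]) inv2

/-- the seven elements generate the Tits group -/
theorem closure_xΓ : Subgroup.closure {g : Γ | ∃ i < 7, g = xΓ i} = T := by
  set M : Subgroup Γ := Subgroup.closure {g : Γ | ∃ i < 7, g = xΓ i} with hM
  apply le_antisymm
  · rw [hM, Subgroup.closure_le]
    rintro g ⟨i, _, rfl⟩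
    exact xΓ_mem_T i
  · have key := mem_or_of_gens M (wΓ [0]) (wΓ [1]) (wΓ [2]) (wΓ [3])
      (by
        intro S h0 h1 h2 h3
        apply top_of_gens S
        intro i
        match i with
        | 0 => exact h0
        | 1 => exact h1
        | 2 => exact h2
        | (n + 3) => exact h3)
      (by rw [← ev_eq_wΓ_of_code gw_g0_ok]; exact ev_mem_closure _)
      (by rw [← ev_eq_wΓ_of_code gw_g1_ok]; exact ev_mem_closure _)
      (by
        have e : wΓ [2] * wΓ [2] = wΓ [2, 2] := (wΓ_append [2] [2]).symm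
        rw [e, ← ev_eq_wΓ_of_code gw_g2sq_ok]; exact ev_mem_closure _)
      (by
        have e : (wΓ [2])⁻¹ * wΓ [3] = wΓ [2, 2, 2, 3] := by
          rw [g2_inv]; exact (wΓ_append [2, 2, 2] [3]).symm
        rw [e, ← ev_eq_wΓ_of_code gw_g2i_g3_ok]; exact ev_mem_closure _)
      (by
        have e : (wΓ [2])⁻¹ * wΓ [0] * wΓ [2] = wΓ [2, 2, 2, 0, 2] := by
          rw [g2_inv, ← wΓ_append, ← wΓ_append]; rfl
        rw [e, ← ev_eq_wΓ_of_code gw_g2i_g0_g2_ok]; exact ev_mem_closure _)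
      (by
        have e : (wΓ [2])⁻¹ * wΓ [1] * wΓ [2] = wΓ [2, 2, 2, 1, 2] := by
          rw [g2_inv, ← wΓ_append, ← wΓ_append]; rfl
        rw [e, ← ev_eq_wΓ_of_code gw_g2i_g1_g2_ok]; exact ev_mem_closure _)
      (by
        have e : wΓ [3] * wΓ [2] = wΓ [3, 2] := (wΓ_append [3] [2]).symm
        rw [e, ← ev_eq_wΓ_of_code gw_g3_g2_ok]; exact ev_mem_closure _)
    intro t ht
    rcases key t with h | h
    · exact h
    · exfalso
      have hM_le : M ≤ T := by
        rw [hM, Subgroup.closure_le]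
        rintro g ⟨i, _, rfl⟩
        exact xΓ_mem_T i
      have h1 : (wΓ [2])⁻¹ ∈ T := by
        have := T.mul_mem (hM_le h) (T.inv_mem ht)
        simpa using this
      exact g2_not_mem_T ((Subgroup.inv_mem_iff T).mp h1)

/-- the seven generators in the Tits group -/
noncomputable def xT (i : ℕ) : ↥T := ⟨xΓ i, xΓ_mem_T i⟩

theorem xT_cube (i : ℕ) : xT i ^ 3 = 1 := by
  apply Subtype.ext
  rw [Subgroup.coe_pow, Subgroup.coe_one]
  exact xΓ_cube i

theorem xT_ge {i : ℕ} (hi : 7 ≤ i) : xT i = 1 := by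
  apply Subtype.ext
  rw [Subgroup.coe_one]
  exact xΓ_ge hi

theorem xT_zero_ne_one : xT 0 ≠ 1 := by
  intro h
  have h1 := congrArg Subtype.val h
  rw [Subgroup.coe_one] at h1
  exact xΓ_zero_ne_one h1

/-- all the relators hold in the Tits group -/
theorem rels_xT : ∀ w ∈ relL, ev xT w = 1 := by
  intro w hw
  have h := map_ev T.subtype xT w
  have e : (fun i => T.subtype (xT i)) = xΓ := by
    funext i
    rfl
  rw [e, rels_xΓ w hw] at h
  exact (map_eq_one_iff T.subtype T.subtype_injective).mp h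

/-- the seven elements generate the Tits group -/
theorem closure_xT : Subgroup.closure {g : ↥T | ∃ i < 7, g = xT i} = ⊤ := by
  apply Subgroup.map_injective T.subtype_injective
  rw [MonoidHom.map_closure, ← MonoidHom.range_eq_map, Subgroup.range_subtype]
  have hset : (T.subtype '' {g : ↥T | ∃ i < 7, g = xT i}) = {g : Γ | ∃ i < 7, g = xΓ i} := by
    ext g
    constructor
    · rintro ⟨_, ⟨i, hi, rfl⟩, rfl⟩
      exact ⟨i, hi, rfl⟩
    · rintro ⟨i, hi, rfl⟩
      exact ⟨xT i, ⟨i, hi, rfl⟩, rfl⟩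
  rw [hset]
  exact closure_xΓ

end Cfsg.Agent.Lib.H28.TitsM
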